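import Cfsg.Agent.H964.Rg.Slo

/-!
# S3691, section 6: plus type, `m` odd, the membership of `r_{2m-4}` (helper839)

* `fixed_false` : a reducible factor with elements of orders `r`, `t`, `ord_r(q) = k > m`, `2 m < m + k`, `ord_t(q) = m` odd:
  impossible;
* `plus_mem`.
-/

set_option autoImplicit false
set_option linter.unusedSectionVars false

namespace Cfsg.Agent.H839.Rg

open Module QuadraticMap Cfsg Cfsg.Geo Cfsg.Agent.LieClassical.OrthCore Cfsg.Agent.LieClassical.OrthTrans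
  Cfsg.Agent.H454.Reg Cfsg.Agent.H884.El Cfsg.Agent.H955 Cfsg.Agent.H954.TSing Cfsg.Agent.H193.Dg Cfsg.Agent.H851.Dg
  Cfsg.Agent.H449.Reg Cfsg.Agent.H964.Rg
open Cfsg.Agent.H951 (fx cm Inv)
open Cfsg.Agent.H278.Cov (Red Ext Num)
open scoped MatrixGroups Matrix

universe u v

variable {ι : Type} [Fintype ι] [DecidableEq ι] {F : Type v} [Field F] [Fintype F] {Q : QuadraticForm F (ι → F)}
variable {G : Type u} [Group G] [Finite G] {T : Subgroup G} [T.Normal] {hG : Good Q} {eT : T ≃* POmega F (⇑Q)}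
  {hI : Ind (eP hG eT)} {X Y : Subgroup G} {p f m N : ℕ}

/-- an element of odd order `m` fixes no vector, and every subspace of dimension less than `m` is fixed pointwise -/
theorem red_false (h : Cx hI X Y p f m N) (hm : 5 ≤ m) (hmo : Odd m) {k r t : ℕ} (hr : PP (Nat.card F) k r)
    (ht : PP (Nat.card F) m t) (hk : 2 ≤ k) (hmk : m < k) (hXr : r ∣ Nat.card (X.subgroupOf T))
    (hXt : t ∣ Nat.card (X.subgroupOf T)) (hred : Red (preG eT X)) : False := by
  obtain ⟨x, hx, -, hxr, hx1⟩ := exists_elt (Q := Q) (preG_le (eT := eT) (X := X)) hr hk (hXr.trans card_dvd_preG)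
  obtain ⟨y, hy, hyt, hytt, hy1⟩ := exists_elt (Q := Q) (preG_le (eT := eT) (X := X)) ht (by omega)
    (hXt.trans card_dvd_preG)
  obtain ⟨S, hS, hSx⟩ := exists_mx hI hr hk (by rw [h.dim]; omega) hx hxr hx1 hred
  -- `dim S < m`
  have hlin : (lin x) ^ r = 1 := by rw [← H251.GeoCard.toLin_pow, hxr]; exact lin_one
  obtain ⟨hsup, hcm, -, -⟩ := elt_data hr hk (by rw [h.dim]; omega) hlin (lin_ne_one hx1)
  have hiso : Iso Q (lin x) r := Iso.mk' hr hk hlin (lin_iso preG_le hx)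
  have hadd := hiso.finrank_add
  rw [h.finrank_V, hcm] at hadd
  have h1 := Submodule.finrank_mono hSx
  -- `y` has no fixed vectors
  have h2 := (hyt.odd_case hG.nondeg (lin_ne_one hy1) ht hmo (by rw [h.finrank_V]; omega)).1
  have h3 := hyt.finrank_add
  rw [h.finrank_V, h2] at h3
  have h4 := hyt.le_fx ht (inv_of_mem (hS.le hy)) (by omega)
  have h5 : fx (lin y) = ⊥ := Submodule.finrank_eq_zero.1 (by omega)
  rw [h5] at h4
  exact hS.ne (eq_bot_iff.2 h4)

/-- **(D)** PLUS, `m` odd -/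
theorem plus_mem (h : Cx hI X Y p f m (2 * m - 2)) (hm : 5 ≤ m) (hmo : Odd m) (_hP : IsPlus Q)
    {r2 r4 t : ℕ} (hr2 : PP (Nat.card F) (2 * m - 2) r2) (hr4 : PP (Nat.card F) (2 * m - 4) r4) (ht : PP (Nat.card F) m t)
    (hX2 : r2 ∣ Nat.card (X.subgroupOf T))
    (h1 : t ∣ Nat.card (X.subgroupOf T) ∨ t ∣ Nat.card (Y.subgroupOf T))
    (h4 : r4 ∣ Nat.card (X.subgroupOf T) ∨ r4 ∣ Nat.card (Y.subgroupOf T))
    (hLX : t ∣ Nat.card (X.subgroupOf T) → Red (preG eT X) ∨ Ex2 (preG eT X))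
    (hLY : r4 ∣ Nat.card (Y.subgroupOf T) → t ∣ Nat.card (Y.subgroupOf T) → Red (preG eT Y) ∨ Ex2 (preG eT Y)) :
    r4 ∣ Nat.card (X.subgroupOf T) := by
  have hex : ∀ Z : Subgroup G, t ∣ Nat.card (Z.subgroupOf T) → ¬ Ex2 (preG eT Z) := by
    rintro Z hZ ⟨K, hK, hZK⟩
    rcases ext_odd (Q := Q) hG.nondeg (preG_le (eT := eT) (X := Z)) ht hmo (by omega) (by rw [h.dim]; omega)
      (hZ.trans card_dvd_preG) Nat.prime_two hK hZK with h5 | h5
    · have := ht.lt (by omega)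
      omega
    · exact (Nat.not_even_iff_odd.2 hmo) (even_iff_two_dvd.2 h5)
  rcases h4 with h4 | h4
  · exact h4
  exfalso
  rcases h1 with h1 | h1
  · rcases hLX h1 with h5 | h5
    · exact red_false h hm hmo hr2 ht (by omega) (by omega) hX2 h1 h5
    · exact hex X h1 h5
  · rcases hLY h4 h1 with h5 | h5
    · exact red_false h.symm hm hmo hr4 ht (by omega) (by omega) h4 h1 h5
    · exact hex Y h1 h5

end Cfsg.Agent.H839.Rg
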